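import Groth.Agent.Lib.EGA43Top.Goldman
import Groth.Agent.Lib.LocFact12.Basic
import Groth.Agent.Lib.SMT.CMBasic
import Groth.Agent.Lib.SerreCrit.Basic
import Mathlib

/-!
# Cohen–Macaulay stalks
-/

universe u

open CategoryTheory AlgebraicGeometry TopologicalSpace

namespace Groth.Agent.PropsStalk1

variable {X : Scheme.{u}}

theorem exists_closed_specialization [IsLocallyNoetherian X] (x : X) :
    ∃ y : X, x ⤳ y ∧ IsClosed ({y} : Set X) := by
  obtain ⟨z, hz, hzlc⟩ := EGA43Top.exists_mem_isLocallyClosed_singleton (Z := closure ({x} : Set X))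
    (isClosed_closure.isLocallyClosed) ⟨x, subset_closure rfl⟩
  have hxz : x ⤳ z := specializes_iff_mem_closure.2 hz
  by_cases hcl : IsClosed ({z} : Set X)
  · exact ⟨z, hxz, hcl⟩
  · obtain ⟨y, hy, hne⟩ : ∃ y ∈ closure ({z} : Set X), y ≠ z := by
      by_contra! h
      exact hcl (closure_subset_iff_isClosed.1 h)
    have hzy : z ⤳ y := specializes_iff_mem_closure.2 hy
    refine ⟨y, hxz.trans hzy, closure_subset_iff_isClosed.1 fun w hw => ?_⟩
    exact (EGA43Top.scheme_specializes_eq_or_eq hzlc hzy (specializes_iff_mem_closure.2 hw)).resolve_left hne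

theorem isCM_stalk_of_specializes {x y : X} (h : x ⤳ y)
    (hy : LocCoh.IsCohenMacaulayLocalRing (X.presheaf.stalk y)) :
    LocCoh.IsCohenMacaulayLocalRing (X.presheaf.stalk x) := by
  let L := X.presheaf.stalk y
  let P : Ideal L := DivDesc12.primeAt h
  have hCM := (DepthLib.isCohenMacaulayModule_localizedModule (M := L) hy.supportDim_eq_depth P
    (Module.mem_support_iff'.2 ⟨1, fun r hr h0 => hr (by simpa [show r = 0 by simpa using h0] using P.zero_mem)⟩)).1
  have hP' : LocCoh.IsCohenMacaulayLocalRing (Localization.AtPrime P) := by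
    refine ⟨?_⟩
    rw [Module.supportDim_self_eq_ringKrullDim, IsLocalization.AtPrime.ringKrullDim_eq_height P,
      ← DepthLib.supportDim_eq_ringKrullDim_of_isPrime P, hCM, DepthLib.depth_localizedModule_self]
  letI := (DivDesc12.sp h).toAlgebra
  haveI := LocFact12.isLocalization_sp h
  exact SMT.isCM_of_ringEquiv (IsLocalization.algEquiv P.primeCompl (Localization.AtPrime P)
    (X.presheaf.stalk x)).toRingEquiv hP'

theorem isCM_of_normal_dim_le_two (L : Type u) [CommRing L] [IsLocalRing L] [IsNoetherianRing L] [IsDomain L]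
    [IsIntegrallyClosed L] (h : ringKrullDim L ≤ 2) : LocCoh.IsCohenMacaulayLocalRing L := by
  by_cases h1 : ringKrullDim L ≤ 1
  · haveI := SerreCrit.isRegularLocalRing_of_normal L h1
    exact DepthLib.isCohenMacaulayLocalRing_of_isRegularLocalRing
  · refine ⟨le_antisymm ?_ DepthLib.depth_le_supportDim⟩
    rw [Module.supportDim_self_eq_ringKrullDim]
    exact h.trans (WithBot.coe_le_coe.2 (SerreCrit.two_le_depth_of_normal L (Order.succ_le_of_lt (not_le.1 h1))))

end Groth.Agent.PropsStalk1
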